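/-
`|Aut G| = |Out G| |G|` for centreless groups.
-/
import Mathlib
import Cfsg.Prelude.Def_KGroupFacts

set_option autoImplicit false

namespace CfsgLib.Classical.AutOrder

universe u

theorem card_mulAut_of_center_bot {G : Type u} [Group G] (h : Subgroup.center G = ⊥) :
    Nat.card (MulAut G) = Nat.card (Cfsg.Out G) * Nat.card G := by
  have hinn : Nat.card (Cfsg.Inn G) = Nat.card G := by
    refine (Nat.card_congr (MonoidHom.ofInjective (f := MulAut.conj (G := G)) ?_).toEquiv).symm
    refine (injective_iff_map_eq_one _).2 fun g hg => ?_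
    have hc : g ∈ Subgroup.center G := Subgroup.mem_center_iff.2 fun y => by
      have := DFunLike.congr_fun hg y
      rw [MulAut.conj_apply, MulAut.one_apply, mul_inv_eq_iff_eq_mul] at this
      exact this.symm
    rwa [h, Subgroup.mem_bot] at hc
  rw [← hinn]
  exact Subgroup.card_eq_card_quotient_mul_card_subgroup (Cfsg.Inn G)

end CfsgLib.Classical.AutOrder
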