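/-
`|Aut PΩ| = |Out PΩ| |PΩ|`.
-/
import Mathlib
import Cfsg.Agent.Lib.Classical.AutOrder.Basic
import Cfsg.Agent.Lib.KnownSimple.POAut.Coords

set_option autoImplicit false

namespace CfsgLib.Classical.AutOrder

open CfsgLib.Classical CfsgLib.POAut

theorem card_mulAut_POmega {F : Type*} [Field F] [Fintype F] {ι : Type} [Fintype ι] [DecidableEq ι]
    {Q : QuadraticForm F (ι → F)} {fq : (ι → F) → F} (h : ⇑Q = fq) (hQ : Good Q) :
    Nat.card (MulAut (Cfsg.POmega F fq)) = Nat.card (Cfsg.Out (Cfsg.POmega F fq)) * Nat.card (Cfsg.POmega F fq) := by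
  subst h
  have h7 := hQ.seven
  haveI : Group.IsPerfect (eichGroup Q) := ⟨Subgroup.map_injective (eichGroup Q).subtype_injective (by
    rw [commutator_def, Subgroup.map_commutator, ← MonoidHom.range_eq_map, Subgroup.range_subtype,
      eichGroup_perfect Q hQ.nondeg (by omega)])⟩
  haveI : Group.IsPerfect (Cfsg.Omega F ⇑Q) := Group.IsPerfect.ofSurjective (f := (omegaEquiv Q hQ).symm.toMonoidHom)
    (omegaEquiv Q hQ).symm.surjective
  exact card_mulAut_of_center_bot (Group.IsPerfect.center_quotient_center_eq_bot _)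

end CfsgLib.Classical.AutOrder
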