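/-
`|Aut PSU_n(q)|`.
-/
import Cfsg.Agent.Lib.Classical.AutOrder.Basic
import Cfsg.Agent.Lib.Classical.UnitaryPSU
import Cfsg.Agent.S2603

set_option autoImplicit false

namespace CfsgLib.Classical.AutOrder

open Cfsg

variable {K : Type*} [Field K] [Fintype K]

theorem card_mulaut_psu (p f : ℕ) [Fact p.Prime] (hf : 1 ≤ f) {q : ℕ} (hq : q = p ^ f)
    (hK : Fintype.card K = q ^ 2) (n : ℕ) (hn : 3 ≤ n) (h32 : ¬ (n = 3 ∧ q = 2)) :
    Nat.card (MulAut (PSU n K q)) = Nat.gcd n (q + 1) * (2 * f) * Nat.card (PSU n K q) := by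
  obtain ⟨φ, hs, -, hk⟩ := Cfsg.Agent.S2603.result (K := K) hf hq hK hn h32
  haveI : Group.IsPerfect (SU n K q) := ⟨by
    refine eq_top_iff.2 ?_
    rw [← CfsgLib.Classical.Unitary.su_closure_transvections hK hn h32, Subgroup.closure_le, commutator_eq_closure]
    rintro A ⟨v, t, hv, hA⟩
    exact Subgroup.subset_closure
      (CfsgLib.Classical.Unitary.su_transvection_mem_commutatorSet hK hn A v t hv hA)⟩
  rw [card_mulAut_of_center_bot (Group.IsPerfect.center_quotient_center_eq_bot (SU n K q))]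
  congr 1
  rw [← hk, ← Subgroup.card_mul_index φ.ker, Subgroup.index_ker, MonoidHom.range_eq_top.2 hs, Subgroup.card_top,
    Nat.card_congr Multiplicative.toAdd, Nat.card_zmod]

end CfsgLib.Classical.AutOrder
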