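/-
`|Aut PSp_2m(q)|`.
-/
import Cfsg.Agent.Lib.Classical.AutOrder.Basic
import Cfsg.Agent.Lib.Classical.SpOrder
import Cfsg.Agent.Lib.Classical.SpCenter
import Cfsg.Agent.Lib.KnownSimple.PSpAut.Out
import Cfsg.Agent.Lib.KnownSimple.PSLAut.Out
import Cfsg.Agent.S2600

set_option autoImplicit false

namespace CfsgLib.Classical.AutOrder

open Matrix Cfsg CfsgLib.PSpAut

variable {F : Type*} [Field F] {m : ℕ}

/-- The multiplier homomorphism. -/
noncomputable def multHom (hm : 1 ≤ m) : Cfsg.GSp m F →* Fˣ :=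
  MonoidHom.mk' multFun fun a b => Units.ext (multFun_unique hm _ fun u v => by
    rw [mat_mul, ← mulVec_mulVec, ← mulVec_mulVec, multFun_spec, multFun_spec, Units.val_mul, mul_assoc])

theorem multHom_surjective (hm : 1 ≤ m) : Function.Surjective (multHom (F := F) hm) := by
  intro c
  let M : Matrix (Fin m ⊕ Fin m) (Fin m ⊕ Fin m) F := fromBlocks 1 0 0 ((c : F) • 1)
  let M' : Matrix (Fin m ⊕ Fin m) (Fin m ⊕ Fin m) F := fromBlocks 1 0 0 (((c⁻¹ : Fˣ) : F) • 1)
  let u : GL (Fin m ⊕ Fin m) F := ⟨M, M',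
    by simp [M, M', fromBlocks_multiply, smul_smul], by simp [M, M', fromBlocks_multiply, smul_smul]⟩
  have key : ∀ x y : Fin m ⊕ Fin m → F, sympForm m F ((u : Matrix _ _ F) *ᵥ x) ((u : Matrix _ _ F) *ᵥ y) =
      (c : F) * sympForm m F x y := fun x y => by
    show sympForm m F (M *ᵥ x) (M *ᵥ y) = _
    simp only [M, sympForm_eq, fromBlocks_mulVec, Sum.elim_inl, Sum.elim_inr]
    simp [smul_mulVec]
    rw [mul_sub, Finset.mul_sum, Finset.mul_sum]
    congr 1 <;> exact Finset.sum_congr rfl fun i _ => by ring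
  exact ⟨⟨u, c, key⟩, Units.ext (multFun_unique hm _ key)⟩

theorem card_range_conjPSp [Fintype F] (hm : 2 ≤ m) :
    Nat.card (conjPSp : Cfsg.GSp m F →* MulAut (PSp m F)).range = Nat.card (symplecticGroup (Fin m) F) := by
  classical
  set χ := multHom (F := F) (m := m) (by omega) with hχ
  have hker : Nat.card χ.ker = Nat.card (symplecticGroup (Fin m) F) := by
    refine (Nat.card_congr (Equiv.ofBijective (fun s => (⟨toGSp s, ?_⟩ : χ.ker)) ⟨?_, ?_⟩)).symm
    · exact Units.ext (multFun_unique (by omega) _ fun u v => by rw [mat_toGSp, sp_form, Units.val_one, one_mul])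
    · exact fun a b h => Subtype.ext (congrArg (fun g : χ.ker => mat g.1) h)
    · rintro ⟨g, hg⟩
      refine ⟨⟨mat g, mem_sp_iff.2 fun u v => ?_⟩, Subtype.ext (mat_injective rfl)⟩
      rw [multFun_spec, show multFun g = 1 from hg, Units.val_one, one_mul]
  have hG : Nat.card (Cfsg.GSp m F) = Nat.card Fˣ * Nat.card (symplecticGroup (Fin m) F) := by
    rw [← Subgroup.index_mul_card χ.ker, Subgroup.index_ker, MonoidHom.range_eq_top.2 (multHom_surjective _),
      Subgroup.card_top, hker]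
  set ψ := (conjPSp : Cfsg.GSp m F →* MulAut (PSp m F)) with hψ
  haveI : Nonempty (Fin m ⊕ Fin m) := ⟨Sum.inl ⟨0, by omega⟩⟩
  have hsmem : ∀ c : Fˣ, Units.map (Matrix.scalar (Fin m ⊕ Fin m) : F →+* _).toMonoidHom c ∈ Cfsg.GSp m F :=
    fun c => ⟨c * c, fun u v => by
      show sympForm m F (Matrix.scalar _ (c : F) *ᵥ u) (Matrix.scalar _ (c : F) *ᵥ v) = _
      rw [Matrix.scalar_apply, ← Matrix.smul_one_eq_diagonal, smul_mulVec, smul_mulVec, one_mulVec, one_mulVec,
        sympForm_smul_left, sympForm_smul_right, Units.val_mul, mul_assoc]⟩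
  have hψker : Nat.card ψ.ker = Nat.card Fˣ := by
    refine (Nat.card_congr (Equiv.ofBijective (fun c => (⟨⟨_, hsmem c⟩, ?_⟩ : ψ.ker)) ⟨?_, ?_⟩)).symm
    · refine (conjPSp_eq_one_iff hm _).2 ⟨c, ?_⟩
      show Matrix.scalar _ (c : F) = _
      rw [Matrix.scalar_apply, ← Matrix.smul_one_eq_diagonal]
    · intro a b h
      exact Units.ext (Matrix.scalar_inj.1 (congrArg (fun g : ψ.ker => mat g.1) h))
    · rintro ⟨g, hg⟩
      obtain ⟨c, hc⟩ := (conjPSp_eq_one_iff hm g).1 hg
      have hc0 : c ≠ 0 := by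
        rintro rfl
        have h1 := mat_mul_inv g
        rw [hc, zero_smul, Matrix.zero_mul] at h1
        exact zero_ne_one h1
      refine ⟨Units.mk0 c hc0, Subtype.ext (mat_injective ?_)⟩
      show Matrix.scalar _ c = _
      rw [hc, Matrix.scalar_apply, ← Matrix.smul_one_eq_diagonal]
  have h := Subgroup.index_mul_card ψ.ker
  rw [Subgroup.index_ker, hψker, hG, mul_comm] at h
  exact Nat.eq_of_mul_eq_mul_left Nat.card_pos h

theorem card_mulaut_psp [Fintype F] (p f : ℕ) [Fact p.Prime] (hf : 1 ≤ f) (hF : Fintype.card F = p ^ f)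
    (hm : 2 ≤ m) (h22 : m = 2 → 3 ≤ p ^ f) :
    Nat.card (MulAut (PSp m F)) =
      (if m = 2 ∧ p = 2 then 2 else 1) * Nat.gcd 2 (p ^ f - 1) * f * Nat.card (PSp m F) := by
  haveI : CharP F p := charP_of_card_eq_prime_pow hF
  have hperf : commutator (symplecticGroup (Fin m) F) = ⊤ := by
    apply commutator_sp_eq_top
    rcases hm.lt_or_eq with h3 | h2
    · exact Or.inr (Or.inl h3)
    · rcases exists_sq_ne_one_or_two_ne_zero (hF ▸ h22 h2.symm) with h' | h'
      · exact Or.inl h'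
      · exact Or.inr (Or.inr ⟨hm, h'⟩)
  haveI : Group.IsPerfect (symplecticGroup (Fin m) F) := ⟨hperf⟩
  split_ifs with hcase
  · obtain ⟨rfl, rfl⟩ := hcase
    have hcop : Nat.gcd 2 (2 ^ f - 1) = 1 := by
      refine (Nat.prime_two.coprime_iff_not_dvd).2 fun h => ?_
      have h1 : 1 ≤ 2 ^ f := Nat.one_le_two_pow
      have h2 : 2 ∣ 2 ^ f := dvd_pow_self 2 (by omega)
      omega
    rw [card_mulAut_of_center_bot (Group.IsPerfect.center_quotient_center_eq_bot _),
      (Cfsg.Agent.S2600.result hf hF).2, hcop, mul_one]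
  · have h4 : m = 2 → p ≠ 2 := fun h e => hcase ⟨h, e⟩
    obtain ⟨e⟩ := CfsgLib.PSLAut.exists_ringAut_equiv (F := F) hF
    have hbij : Function.Bijective (fun x : (conjPSp : Cfsg.GSp m F →* MulAut (PSp m F)).range × (F ≃+* F) =>
        x.1.1 * fieldPSp x.2) := by
      refine ⟨?_, fun β => ?_⟩
      · rintro ⟨⟨a, g, rfl⟩, τ⟩ ⟨⟨a', g', rfl⟩, τ'⟩ h
        have hτ := conj_field_injective hm h
        subst hτ
        exact Prod.ext (Subtype.ext (mul_right_cancel h)) rfl
      · obtain ⟨g, τ, hg, hβ⟩ := aut_classification hm h4 β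
        exact ⟨(⟨_, ⟨g, hg⟩, rfl⟩, τ), (eq_of_isInduced (g := ⟨g, hg⟩) hβ).symm⟩
    rw [one_mul, ← Nat.card_eq_of_bijective _ hbij, Nat.card_prod, card_range_conjPSp hm, Nat.card_congr e.toEquiv,
      Nat.card_congr Multiplicative.toAdd, Nat.card_zmod,
      Subgroup.card_eq_card_quotient_mul_card_subgroup (Subgroup.center (symplecticGroup (Fin m) F)),
      card_center_sp (by omega), hF]
    show Nat.card (PSp m F) * _ * _ = _
    ring

end CfsgLib.Classical.AutOrder
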